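import Cfsg.Agent.H444.FprChk
import Cfsg.Agent.H715.Fpr.Row

/-!
# Fixed point ratios: the data of the Sylow normalisers combined with the order engine (helper147)

`row_comb` : `FprRow a b p S` from
* `Known` data of helper444 (normalisers of the Sylow subgroups of prime order),
* the test `bad` of the engine of helper940 for the orders of proper subgroups,
* orders of centralizers of `p`-elements;
* `row_combA` : with a list of indices treated separately.
-/

set_option autoImplicit false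

namespace Cfsg.Agent.H147.Fpr

open Subgroup MulAction Cfsg.Agent.H409 Cfsg.Agent.H940.Eng

universe u

/-- the check for the index `d` -/
def chkC (l : List (ℕ × ℕ)) (n p a b : ℕ) (J : List ℕ) (D : List (ℕ × ℕ × ℕ)) (cent : List ℕ) (bd : ℕ) (loc : List LD)
    (ords : List ℕ) (d : ℕ) : Bool :=
  H444.Fpr.chk n p a b J D d || (Nat.beq (d % p) 0 && !Nat.beq (n % p ^ 3) 0) || (cent.any fun c => Nat.ble (a * c) (b * d)) ||
    bad l n [] bd loc ords (n / d)

theorem row_combA {S : Type u} [Group S] {l : List (ℕ × ℕ)} {n : ℕ} {ords : List ℕ} {loc : List LD}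
    (c : Ctx S l n ords loc) {p a b : ℕ} (hp : p.Prime) (hab : a ≤ b * (p + 1))
    (J : List ℕ) (hJ : ∀ q ∈ J, q.Prime ∧ q ∣ n) (D : List (ℕ × ℕ × ℕ)) (hD : ∀ d ∈ D, H444.Fpr.Known S d.1 d.2.1 d.2.2)
    (cent : List ℕ) (hcent : ∀ m ∈ cent, ∃ x : S, (∃ k, orderOf x = p ^ k) ∧ Nat.card (centralizer ({x} : Set S)) ≤ m)
    (bd T : ℕ) (hbig : D.any (H444.Fpr.big a b p T) = true) (allow : List ℕ)
    (hal : ∀ M : Subgroup S, IsCoatom M → M.index ∈ allow → ∃ x : S, (∃ k : ℕ, orderOf x = p ^ k) ∧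
      a * Nat.card (fixedBy (S ⧸ M) x) ≤ b * Nat.card (S ⧸ M))
    (hchk : ((List.range T).all fun d => allow.contains d || chkC l n p a b J D cent bd loc ords d) = true) :
    FprRow a b p S := by
  have := c.fin
  have := c.simple
  have hpf : Fact p.Prime := ⟨hp⟩
  apply FprRow.of_coatom
  intro M hM
  by_cases hT : T ≤ M.index
  · rw [List.any_eq_true] at hbig
    obtain ⟨d, hd, h1⟩ := hbig
    exact H444.Fpr.of_big hp (hD d hd) h1 hT
  · rw [List.all_eq_true] at hchk
    have h1 := hchk M.index (List.mem_range.2 (not_le.1 hT))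
    rw [Bool.or_eq_true, List.contains_iff_mem] at h1
    rcases h1 with h1 | h1
    · exact hal M hM h1
    have hmi : Nat.card M * M.index = n := by rw [Subgroup.card_mul_index, c.card]
    have hin : n / M.index = Nat.card M := by
      rw [← hmi]
      exact Nat.mul_div_cancel _ (Nat.pos_of_ne_zero Subgroup.index_ne_zero_of_finite)
    unfold chkC at h1
    simp only [Bool.or_eq_true, Bool.and_eq_true, Bool.not_eq_true', List.any_eq_true, H444.Fpr.beqT, H444.Fpr.beqF,
      H444.Fpr.bleT] at h1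
    rcases h1 with ((h1 | ⟨h1, h2⟩) | ⟨m, hm, h1⟩) | h1
    · unfold H444.Fpr.chk at h1
      simp only [Bool.or_eq_true, Bool.not_eq_true', List.any_eq_true] at h1
      rcases h1 with (h1 | h1) | ⟨d, hd, h1⟩
      · exact H444.Fpr.of_vac hp c.card hab hJ hM h1
      · rw [H444.Fpr.adm_of_known hD hM.1] at h1
        exact absurd h1 (by decide)
      · exact H444.Fpr.of_opt hp (hD d hd) hM.1 h1
    · have h3 : p ∣ Nat.card (S ⧸ M) := Nat.dvd_of_mod_eq_zero h1
      have h4 : ¬ p ^ 3 ∣ Nat.card S := by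
        rw [c.card]
        exact fun h => h2 (Nat.mod_eq_zero_of_dvd h)
      obtain ⟨x, hx, -, hle⟩ := exists_of_dvd_of_card_le (G := S) (Ω := S ⧸ M) (p := p) h3 h4
      refine ⟨x, hx, ?_⟩
      calc a * Nat.card (fixedBy (S ⧸ M) x) ≤ b * (p + 1) * Nat.card (fixedBy (S ⧸ M) x) := Nat.mul_le_mul_right _ hab
        _ = b * ((p + 1) * Nat.card (fixedBy (S ⧸ M) x)) := by ring
        _ ≤ b * (1 * Nat.card (S ⧸ M)) := Nat.mul_le_mul_left b hle
        _ = b * Nat.card (S ⧸ M) := by ring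
    · obtain ⟨x, hx, hc⟩ := hcent m hm
      refine ⟨x, hx, ?_⟩
      have h3 := H715.Fpr.fix_le_cent M x
      exact (Nat.mul_le_mul_left a (h3.trans hc)).trans h1
    · exfalso
      rw [hin] at h1
      have h2 := not_bad c.val c.card c.ords c.loc (full := []) (bd := bd) (H := M) (by simp) hM.1
      rw [h1] at h2
      exact absurd h2 (by decide)

theorem row_comb {S : Type u} [Group S] {l : List (ℕ × ℕ)} {n : ℕ} {ords : List ℕ} {loc : List LD}
    (c : Ctx S l n ords loc) {p a b : ℕ} (hp : p.Prime) (hab : a ≤ b * (p + 1))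
    (J : List ℕ) (hJ : ∀ q ∈ J, q.Prime ∧ q ∣ n) (D : List (ℕ × ℕ × ℕ)) (hD : ∀ d ∈ D, H444.Fpr.Known S d.1 d.2.1 d.2.2)
    (cent : List ℕ) (hcent : ∀ m ∈ cent, ∃ x : S, (∃ k, orderOf x = p ^ k) ∧ Nat.card (centralizer ({x} : Set S)) ≤ m)
    (bd T : ℕ) (hbig : D.any (H444.Fpr.big a b p T) = true)
    (hchk : (List.range T).all (chkC l n p a b J D cent bd loc ords) = true) :
    FprRow a b p S :=
  row_combA c hp hab J hJ D hD cent hcent bd T hbig [] (fun M _ h => absurd h List.not_mem_nil) (by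
    rw [List.all_eq_true] at hchk ⊢
    intro d hd
    rw [hchk d hd, Bool.or_true])

/-- the data for the prime `r` from a bound for the centralizer -/
theorem known_of_dvd {S : Type*} [Group S] [Finite S] {r C N : ℕ} (hr : r.Prime) (hN : Nat.card S = N) (hd : N % r = 0)
    (hsq : N % (r * r) ≠ 0) {z : S} (hz : orderOf z = r) (hc : Nat.card (centralizer ({z} : Set S)) ∣ r * C) (hC : C ≠ 0)
    (L : List (ℕ × ℕ)) (hchk : ((List.range (C + 1)).all fun c => Nat.beq c 0 || !Nat.beq (C % c) 0 ||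
      (List.range r).all fun e => Nat.beq e 0 || !Nat.beq ((r - 1) % e) 0 || !Nat.beq (N % (r * c * e)) 0 ||
        !Nat.beq ((N / (r * c * e)) % r) (1 % r) || L.any fun x => Nat.beq x.1 c && Nat.beq x.2 e) = true)
    (hL : ∀ x ∈ L, ∀ y ∈ L, x.1 = y.1 → x.2 = y.2) :
    ∃ x ∈ L, H444.Fpr.Known S r x.1 x.2 := by
  have hsq' : ¬ r * r ∣ Nat.card S := by
    rw [hN]; exact fun h => hsq (Nat.mod_eq_zero_of_dvd h)
  obtain ⟨e, he1, he2, he3, he4, -⟩ := H547.SelfCent.arith hr hz hsq'
  have hmem : z ∈ centralizer ({z} : Set S) := mem_centralizer_singleton_iff.2 rfl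
  have hrC : r ∣ Nat.card (centralizer ({z} : Set S)) := by
    rw [← hz, ← Subgroup.orderOf_mk z hmem]
    exact orderOf_dvd_natCard _
  obtain ⟨c, hcc⟩ := hrC
  have hcd : c ∣ C := by
    rw [hcc] at hc
    exact Nat.dvd_of_mul_dvd_mul_left hr.pos hc
  have hr2 := hr.two_le
  have hc0 : c ≠ 0 := by
    rintro rfl
    rw [zero_dvd_iff] at hcd
    exact hC hcd
  have he0 : e ≠ 0 := by
    rintro rfl
    rw [zero_dvd_iff] at he1
    omega
  rw [hcc, hN] at he2 he3
  rw [List.all_eq_true] at hchk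
  have h1 := hchk c (List.mem_range.2 (Nat.lt_succ_of_le (Nat.le_of_dvd (Nat.pos_of_ne_zero hC) hcd)))
  simp only [Bool.or_eq_true, Bool.and_eq_true, Bool.not_eq_true', List.all_eq_true, List.any_eq_true, H444.Fpr.beqT,
    H444.Fpr.beqF, List.mem_range] at h1
  rcases h1 with (h1 | h1) | h1
  · exact absurd h1 hc0
  · exact absurd (Nat.mod_eq_zero_of_dvd hcd) h1
  · have h2 := h1 e (by
      have := Nat.le_of_dvd (by omega) he1
      omega)
    rcases h2 with (((h2 | h2) | h2) | h2) | ⟨x, hx, h3, h4⟩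
    · exact absurd h2 he0
    · exact absurd (Nat.mod_eq_zero_of_dvd he1) h2
    · exact absurd (Nat.mod_eq_zero_of_dvd he2) h2
    · exact absurd he3 h2
    · refine ⟨x, hx, H444.Fpr.Known.of_cent hr hN hd hsq hz (by rw [hcc, h3]) ?_⟩
      rw [List.all_eq_true]
      intro k hk
      simp only [Bool.or_eq_true, bne_iff_ne, ne_eq, beq_iff_eq]
      by_contra hcon
      push Not at hcon
      obtain ⟨⟨⟨g1, g2⟩, g3⟩, g4⟩ := hcon
      rw [h3] at g2 g3
      rcases h1 k (List.mem_range.1 hk) with (((h5 | h5) | h5) | h5) | ⟨y, hy, h5, h6⟩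
      · rw [h5, Nat.mod_zero] at g1
        omega
      · exact h5 g1
      · exact h5 g2
      · exact h5 g3
      · exact g4 (by rw [← h6]; exact hL y hy x hx (by rw [h5, h3]))

end Cfsg.Agent.H147.Fpr
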