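import Cfsg.Agent.H147.Fpr.Comb
import Cfsg.Agent.H940.EngLoc
import Cfsg.Agent.H715.Fpr.RowTools

/-!
# Fixed point ratios: local data from `Known`, rows with a separate argument for large indices (helper147)
-/

set_option autoImplicit false

namespace Cfsg.Agent.H147.Fpr

open Subgroup MulAction Cfsg.Agent.H409 Cfsg.Agent.H940.Eng Cfsg.Agent.OrdDiv

universe u

/-- local data from `Known` -/
theorem loc_of_known {G : Type u} [Group G] [Finite G] {r c e : ℕ} (h : H444.Fpr.Known G r c e) {fN : List (ℕ × ℕ)}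
    (hp : (fN.all fun x => isPrimeB x.1) = true) (hN : prodl fN = r * c * e) : Loc G ⟨r, r * c, fN⟩ := by
  have := Fact.mk h.prime
  refine ⟨h.prime, fun x hx => prime_of (List.all_eq_true.1 hp x hx), by rw [pow_two]; exact h.nsq, fun R hR => ?_⟩
  obtain ⟨x, hx⟩ := exists_prime_orderOf_dvd_card' r (hR ▸ dvd_rfl : r ∣ Nat.card R)
  have hxo : orderOf (x : G) = r := by rw [Subgroup.orderOf_coe, hx]
  have hxR : R = zpowers (x : G) := by
    symm
    apply Subgroup.eq_of_le_of_card_ge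
    · rw [zpowers_le]; exact x.2
    · rw [Nat.card_zpowers, hxo, hR]
  constructor
  · show _ ∣ r * c
    rw [hxR, H715.Fpr.cent_zpowers', h.cent _ hxo]
  · show _ ∣ prodl fN
    rw [hN, hxR, h.norm _ hxo]

/-- the check for one index is sound -/
theorem of_chkC {S : Type u} [Group S] {l : List (ℕ × ℕ)} {n : ℕ} {ords : List ℕ} {loc : List LD}
    (c : Ctx S l n ords loc) {p a b : ℕ} (hp : p.Prime) (hab : a ≤ b * (p + 1))
    {J : List ℕ} (hJ : ∀ q ∈ J, q.Prime ∧ q ∣ n) {D : List (ℕ × ℕ × ℕ)} (hD : ∀ d ∈ D, H444.Fpr.Known S d.1 d.2.1 d.2.2)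
    {cent : List ℕ} (hcent : ∀ m ∈ cent, ∃ x : S, (∃ k, orderOf x = p ^ k) ∧ Nat.card (centralizer ({x} : Set S)) ≤ m)
    {bd : ℕ} {M : Subgroup S} (hM : IsCoatom M) (h1 : chkC l n p a b J D cent bd loc ords M.index = true) :
    ∃ x : S, (∃ k : ℕ, orderOf x = p ^ k) ∧ a * Nat.card (fixedBy (S ⧸ M) x) ≤ b * Nat.card (S ⧸ M) := by
  have := c.fin
  have := c.simple
  have hpf : Fact p.Prime := ⟨hp⟩
  have hmi : Nat.card M * M.index = n := by rw [Subgroup.card_mul_index, c.card]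
  have hin : n / M.index = Nat.card M := by
    rw [← hmi]
    exact Nat.mul_div_cancel _ (Nat.pos_of_ne_zero Subgroup.index_ne_zero_of_finite)
  unfold chkC at h1
  simp only [Bool.or_eq_true, Bool.and_eq_true, Bool.not_eq_true', List.any_eq_true, H444.Fpr.beqT, H444.Fpr.beqF,
    H444.Fpr.bleT] at h1
  rcases h1 with ((h1 | ⟨h1, h2⟩) | ⟨m, hm, h1⟩) | h1
  · unfold H444.Fpr.chk at h1
    simp only [Bool.or_eq_true, Bool.not_eq_true', List.any_eq_true] at h1
    rcases h1 with (h1 | h1) | ⟨d, hd, h1⟩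
    · exact H444.Fpr.of_vac hp c.card hab hJ hM h1
    · rw [H444.Fpr.adm_of_known hD hM.1] at h1
      exact absurd h1 (by decide)
    · exact H444.Fpr.of_opt hp (hD d hd) hM.1 h1
  · have h3 : p ∣ Nat.card (S ⧸ M) := Nat.dvd_of_mod_eq_zero h1
    have h4 : ¬ p ^ 3 ∣ Nat.card S := by
      rw [c.card]
      exact fun h => h2 (Nat.mod_eq_zero_of_dvd h)
    obtain ⟨x, hx, -, hle⟩ := exists_of_dvd_of_card_le (G := S) (Ω := S ⧸ M) (p := p) h3 h4
    refine ⟨x, hx, ?_⟩
    calc a * Nat.card (fixedBy (S ⧸ M) x) ≤ b * (p + 1) * Nat.card (fixedBy (S ⧸ M) x) := Nat.mul_le_mul_right _ hab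
      _ = b * ((p + 1) * Nat.card (fixedBy (S ⧸ M) x)) := by ring
      _ ≤ b * (1 * Nat.card (S ⧸ M)) := Nat.mul_le_mul_left b hle
      _ = b * Nat.card (S ⧸ M) := by ring
  · obtain ⟨x, hx, hc⟩ := hcent m hm
    refine ⟨x, hx, ?_⟩
    have h3 := H715.Fpr.fix_le_cent M x
    exact (Nat.mul_le_mul_left a (h3.trans hc)).trans h1
  · exfalso
    rw [hin] at h1
    have h2 := not_bad c.val c.card c.ords c.loc (full := []) (bd := bd) (H := M) (by simp) hM.1
    rw [h1] at h2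
    exact absurd h2 (by decide)

theorem row_combC {S : Type u} [Group S] {l : List (ℕ × ℕ)} {n : ℕ} {ords : List ℕ} {loc : List LD}
    (c : Ctx S l n ords loc) {p a b : ℕ} (hp : p.Prime) (hab : a ≤ b * (p + 1))
    (J : List ℕ) (hJ : ∀ q ∈ J, q.Prime ∧ q ∣ n) (D : List (ℕ × ℕ × ℕ)) (hD : ∀ d ∈ D, H444.Fpr.Known S d.1 d.2.1 d.2.2)
    (m : ℕ) (hcent : ∃ x : S, (∃ k, orderOf x = p ^ k) ∧ Nat.card (centralizer ({x} : Set S)) ≤ m)
    (bd T : ℕ) (hbig : a * m ≤ b * T)
    (hchk : ((List.range T).all fun d => chkC l n p a b J D [m] bd loc ords d) = true) :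
    FprRow a b p S := by
  have := c.fin
  apply FprRow.of_coatom
  intro M hM
  by_cases hT : T ≤ M.index
  · obtain ⟨x, hx, hc⟩ := hcent
    refine ⟨x, hx, ?_⟩
    have h3 := H715.Fpr.fix_le_cent M x
    exact (Nat.mul_le_mul_left a (h3.trans hc)).trans (hbig.trans (Nat.mul_le_mul_left b hT))
  · rw [List.all_eq_true] at hchk
    exact of_chkC c hp hab hJ hD (cent := [m]) (fun m' hm' => by rw [List.mem_singleton.1 hm']; exact hcent) hM
      (hchk M.index (List.mem_range.2 (not_le.1 hT)))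

end Cfsg.Agent.H147.Fpr
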