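import Mathlib
import Cfsg.Agent.H398.FPR.Ree
import Cfsg.Agent.H435.Fpr.Sharp
import Cfsg.Agent.H409.FprAvg

/-!
# Fixed point ratios from generating triples (helper147)

Ree's inequality for the action of `S = ⟨x, y⟩` on the cosets of `H` bounds the number of fixed points of `x`, `y`, `x y`.

* `row_23t` : `x`, `y`, `x y` of orders 2, 3, `t` and index `≥ 2 t` : ratios `1 / 3` for `p = 2` and `1 / 4` for `p = 3`;
* `row_237` : the same and `1 / 8` for `p = 7` if `t = 7`;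
* `seven_277` : `x`, `y`, `x y` of orders 2, 7, 7 : `1 / 8` for `p = 7` or `x` has at most one fixed point;
* `row_277` : the case of at most one fixed point excluded by a Frobenius group of order 56 and commuting conjugates;
* `row_five` : two elementary abelian subgroups of order 16 normalised by an element of order 5.
-/

set_option autoImplicit false

namespace Cfsg.Agent.H147.Fpr

open Subgroup MulAction Cfsg.Agent.H409 Cfsg.Agent.H398.FPR Cfsg.Agent.H565.Scott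

section rank

variable {G Ω : Type*} [Group G] [MulAction G Ω]

/-- the rank of an element of order `e` -/
theorem rk_order [Fintype Ω] {x : G} {e : ℕ} (hx : orderOf x = e) (he : 0 < e) :
    e * rk Ω x + Fintype.card Ω ≤ e * Fintype.card Ω := by
  have h := rk_le' (Ω := Ω) (m := 0) hx he (fun _ _ _ => Nat.zero_le _)
  rwa [Nat.mul_zero, Nat.add_zero] at h

/-- the rank of an element of prime order -/
theorem rk_prime [Fintype Ω] {x : G} {p : ℕ} (hp : p.Prime) (hx : orderOf x = p) :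
    p * rk Ω x + (Fintype.card Ω + (p - 1) * Nat.card (fixedBy Ω x)) ≤ p * Fintype.card Ω := by
  refine rk_le' (Ω := Ω) hx hp.pos fun z hz hz1 => ?_
  -- `x` is a power of `z`
  have h1 : orderOf z = p := by
    have h2 : orderOf z ∣ p := by rw [← hx]; exact orderOf_dvd_of_mem_zpowers hz
    exact ((Nat.dvd_prime hp).1 h2).resolve_left fun h => hz1 (orderOf_eq_one_iff.1 h)
  have hfin : Finite (zpowers x) := by
    apply Nat.finite_of_card_ne_zero
    rw [Nat.card_zpowers, hx]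
    exact hp.ne_zero
  have h2 : zpowers z = zpowers x := by
    apply eq_of_le_of_card_ge (zpowers_le.2 hz)
    rw [Nat.card_zpowers, Nat.card_zpowers, hx, h1]
  have h3 : x ∈ zpowers z := by rw [h2]; exact mem_zpowers x
  apply Nat.card_mono (Set.toFinite _)
  intro w hw
  have h4 : z ∈ stabilizer G w := by
    obtain ⟨k, hk⟩ := mem_zpowers_iff.1 hz
    rw [← hk]
    exact zpow_mem (show x ∈ stabilizer G w from hw) k
  exact h4

/-- fixed points of an element of prime order -/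
theorem fix_modEq [Finite Ω] {x : G} {p : ℕ} (hp : p.Prime) (hx : orderOf x = p) :
    Nat.card (fixedBy Ω x) % p = Nat.card Ω % p := by
  have : Fact p.Prime := ⟨hp⟩
  have h1 : IsPGroup p (zpowers x) := IsPGroup.of_card (n := 1) (by rw [Nat.card_zpowers, hx, pow_one])
  have h2 := h1.card_modEq_card_fixedPoints (α := Ω)
  have h3 : Nat.card (fixedPoints (zpowers x) Ω) = Nat.card (fixedBy Ω x) := by
    refine Nat.card_congr (Equiv.setCongr ?_)
    ext w
    constructor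
    · intro h
      exact h ⟨x, mem_zpowers x⟩
    · rintro h ⟨y, hy⟩
      have h4 : x ∈ stabilizer G w := h
      exact (zpowers_le.2 h4) hy
  rw [h3] at h2
  exact h2.symm

/-- Ree's inequality for two generators -/
theorem ree_two [Fintype Ω] [Nonempty Ω] [IsPretransitive G Ω] {x y : G} (hgen : closure ({x, y} : Set G) = ⊤) :
    2 * Fintype.card Ω ≤ 2 + rk Ω x + rk Ω y + rk Ω (x * y)⁻¹ := by
  have h1 := ree_transitive (G := G) (Ω := Ω) (l := [x, y, (x * y)⁻¹]) (by simp) (by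
    rw [eq_top_iff, ← hgen, closure_le]
    rintro z (rfl | hz)
    · exact subset_closure (by simp)
    · rw [Set.mem_singleton_iff] at hz
      rw [hz]
      exact subset_closure (by simp))
  simp only [List.map_cons, List.map_nil, List.sum_cons, List.sum_nil] at h1
  omega

end rank

section rows

variable {S : Type*} [Group S] [Finite S]

/-- failure of the row gives many fixed points -/
theorem exists_of_not {p : ℕ} (hp : p.Prime) {H : Subgroup S}
    (h : ¬ ∃ x : S, (∃ k : ℕ, orderOf x = p ^ k) ∧ (p + 1) * Nat.card (fixedBy (S ⧸ H) x) ≤ 1 * Nat.card (S ⧸ H))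
    {x : S} (hx : orderOf x = p) :
    Nat.card (S ⧸ H) + p ≤ (p + 1) * Nat.card (fixedBy (S ⧸ H) x) := by
  push Not at h
  have h1 := h x ⟨1, by rw [hx, pow_one]⟩
  rw [one_mul] at h1
  have h2 := fix_modEq (Ω := S ⧸ H) hp hx
  -- `(p + 1) f ≡ f ≡ n`
  have h3 : ((p + 1) * Nat.card (fixedBy (S ⧸ H) x)) % p = Nat.card (S ⧸ H) % p := by
    rw [← h2, add_mul, one_mul, Nat.mul_add_mod]
  set a := (p + 1) * Nat.card (fixedBy (S ⧸ H) x)
  set n := Nat.card (S ⧸ H)
  have h4 : p ∣ a - n := (Nat.modEq_iff_dvd' h1.le).1 h3.symm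
  have h5 := Nat.le_of_dvd (by omega) h4
  omega

theorem row_23t {x y : S} {t : ℕ} (hx : orderOf x = 2) (hy : orderOf y = 3) (ht : orderOf (x * y) = t)
    (hgen : closure ({x, y} : Set S) = ⊤) (hbig : ∀ H : Subgroup S, H ≠ ⊤ → 2 * t ≤ H.index) :
    FprRow 3 1 2 S ∧ FprRow 4 1 3 S := by
  have key : ∀ H : Subgroup S, H ≠ ⊤ → ∃ a b c : ℕ, 2 * Nat.card (S ⧸ H) ≤ 2 + a + b + c ∧
      2 * a + (Nat.card (S ⧸ H) + (2 - 1) * Nat.card (fixedBy (S ⧸ H) x)) ≤ 2 * Nat.card (S ⧸ H) ∧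
      3 * b + (Nat.card (S ⧸ H) + (3 - 1) * Nat.card (fixedBy (S ⧸ H) y)) ≤ 3 * Nat.card (S ⧸ H) ∧
      c + 2 ≤ Nat.card (S ⧸ H) := by
    intro H hH
    have := Fintype.ofFinite (S ⧸ H)
    have h1 := ree_two (Ω := S ⧸ H) hgen
    have h2 := rk_prime (Ω := S ⧸ H) Nat.prime_two hx
    have h3 := rk_prime (Ω := S ⧸ H) Nat.prime_three hy
    have ht0 : 0 < t := by rw [← ht]; exact orderOf_pos _
    have h4 := rk_order (Ω := S ⧸ H) (x := (x * y)⁻¹) (e := t) (by rw [orderOf_inv, ht]) ht0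
    have h5 := hbig H hH
    have h6 : Nat.card (S ⧸ H) = H.index := rfl
    rw [← Nat.card_eq_fintype_card] at h1 h2 h3 h4
    rw [h6] at h1 h2 h3 h4 ⊢
    refine ⟨_, _, _, h1, h2, h3, ?_⟩
    have h7 : t * (rk (S ⧸ H) (x * y)⁻¹ + 2) ≤ t * H.index := by
      rw [mul_add]
      omega
    exact Nat.le_of_mul_le_mul_left h7 ht0
  constructor
  · intro H hH
    obtain ⟨a, b, c, h1, h2, h3, h4⟩ := key H hH
    refine ⟨x, ⟨1, by rw [hx]; rfl⟩, ?_⟩
    omega
  · intro H hH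
    obtain ⟨a, b, c, h1, h2, h3, h4⟩ := key H hH
    refine ⟨y, ⟨1, by rw [hy]; rfl⟩, ?_⟩
    omega

theorem seven_237 {x y : S} (hx : orderOf x = 2) (hy : orderOf y = 3) (ht : orderOf (x * y) = 7)
    (hgen : closure ({x, y} : Set S) = ⊤) (hbig : ∀ H : Subgroup S, H ≠ ⊤ → 16 ≤ H.index) :
    FprRow 8 1 7 S := by
  intro H hH
  by_contra hcon
  have := Fintype.ofFinite (S ⧸ H)
  have h1 := ree_two (Ω := S ⧸ H) hgen
  have h2 := rk_order (Ω := S ⧸ H) (e := 2) hx (by norm_num)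
  have h3 := rk_order (Ω := S ⧸ H) (e := 3) hy (by norm_num)
  have h4 := rk_prime (Ω := S ⧸ H) (x := (x * y)⁻¹) (p := 7) (by norm_num) (by rw [orderOf_inv, ht])
  have h5 := hbig H hH
  have h6 : Nat.card (S ⧸ H) = H.index := rfl
  have h7 := exists_of_not (p := 7) (by norm_num) hcon (x := (x * y)⁻¹) (by rw [orderOf_inv, ht])
  rw [← Nat.card_eq_fintype_card] at h1 h2 h3 h4
  rw [h6] at h1 h2 h3 h4 h7
  omega

/-- the inequality for a triple of orders 2, 7, 7 -/
theorem seven_277 {x y : S} (hx : orderOf x = 2) (hy : orderOf y = 7) (ht : orderOf (x * y) = 7)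
    (hgen : closure ({x, y} : Set S) = ⊤) {H : Subgroup S}
    (hcon : ¬ ∃ x : S, (∃ k : ℕ, orderOf x = 7 ^ k) ∧ (7 + 1) * Nat.card (fixedBy (S ⧸ H) x) ≤ 1 * Nat.card (S ⧸ H)) :
    Nat.card (fixedBy (S ⧸ H) x) ≤ 1 := by
  have := Fintype.ofFinite (S ⧸ H)
  have h1 := ree_two (Ω := S ⧸ H) hgen
  have h2 := rk_prime (Ω := S ⧸ H) Nat.prime_two hx
  have h3 := rk_prime (Ω := S ⧸ H) (p := 7) (by norm_num) hy
  have h4 := rk_prime (Ω := S ⧸ H) (x := (x * y)⁻¹) (p := 7) (by norm_num) (by rw [orderOf_inv, ht])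
  have h6 : Nat.card (S ⧸ H) = H.index := rfl
  have h7 := exists_of_not (p := 7) (by norm_num) hcon (x := (x * y)⁻¹) (by rw [orderOf_inv, ht])
  have h8 := exists_of_not (p := 7) (by norm_num) hcon (x := y) hy
  rw [← Nat.card_eq_fintype_card] at h1 h2 h3 h4
  rw [h6] at h1 h2 h3 h4 h7 h8
  omega

end rows

/-! ### an element of odd prime order normalising an elementary abelian 2-group -/

section radical

variable {S : Type*} [Group S]

/-- the subgroup generated by the conjugates of `r` under `x` -/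
def Rad (x r : S) : Subgroup S := closure (Set.range fun i : ℕ => x ^ i * r * (x ^ i)⁻¹)

/-- the conditions: `r ^ 2 = 1`, `x ^ p = 1`, `(r x) ^ p = 1`, `r` commutes with its first `(p - 1) / 2` conjugates -/
structure RadOk (p : ℕ) (x r : S) : Prop where
  sq : r * r = 1
  pw : x ^ p = 1
  nm : (r * x) ^ p = 1
  cm : ∀ i, 2 * i ≤ p → r * (x ^ i * r * (x ^ i)⁻¹) = (x ^ i * r * (x ^ i)⁻¹) * r

variable {p : ℕ} {x r : S}

theorem RadOk.mem (i : ℕ) : x ^ i * r * (x ^ i)⁻¹ ∈ Rad x r := subset_closure ⟨i, rfl⟩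

theorem RadOk.self : r ∈ Rad x r := by
  have := RadOk.mem (x := x) (r := r) 0
  rwa [pow_zero, one_mul, inv_one, mul_one] at this

theorem RadOk.commA (h : RadOk p x r) (hp : 0 < p) (i : ℕ) :
    r * (x ^ i * r * (x ^ i)⁻¹) = (x ^ i * r * (x ^ i)⁻¹) * r := by
  have h0 : x ^ i = x ^ (i % p) := by
    conv_lhs => rw [← Nat.mod_add_div i p, pow_add, pow_mul, h.pw, one_pow, mul_one]
  rw [h0]
  set j := i % p with hj
  have hjp : j < p := Nat.mod_lt _ hp
  by_cases h1 : 2 * j ≤ p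
  · exact h.cm j h1
  · -- `x ^ j = (x ^ (p - j))⁻¹`
    have h2 := h.cm (p - j) (by omega)
    have h3 : x ^ j = (x ^ (p - j))⁻¹ := by
      rw [eq_inv_iff_mul_eq_one, ← pow_add, show j + (p - j) = p by omega, h.pw]
    rw [h3, inv_inv]
    set y := x ^ (p - j)
    have h4 : y⁻¹ * (r * (y * r * y⁻¹)) * y = y⁻¹ * ((y * r * y⁻¹) * r) * y := by rw [h2]
    calc r * (y⁻¹ * r * y) = y⁻¹ * ((y * r * y⁻¹) * r) * y := by group
      _ = y⁻¹ * (r * (y * r * y⁻¹)) * y := h4.symm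
      _ = (y⁻¹ * r * y) * r := by group

theorem RadOk.commB (h : RadOk p x r) (hp : 0 < p) (i j : ℕ) :
    (x ^ i * r * (x ^ i)⁻¹) * (x ^ j * r * (x ^ j)⁻¹) = (x ^ j * r * (x ^ j)⁻¹) * (x ^ i * r * (x ^ i)⁻¹) := by
  have key : ∀ a b : ℕ, (x ^ a * r * (x ^ a)⁻¹) * (x ^ (a + b) * r * (x ^ (a + b))⁻¹) =
      (x ^ (a + b) * r * (x ^ (a + b))⁻¹) * (x ^ a * r * (x ^ a)⁻¹) := by
    intro a b
    have h1 := h.commA hp b
    have h2 : x ^ a * (r * (x ^ b * r * (x ^ b)⁻¹)) * (x ^ a)⁻¹ =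
        x ^ a * ((x ^ b * r * (x ^ b)⁻¹) * r) * (x ^ a)⁻¹ := by rw [h1]
    rw [pow_add]
    calc (x ^ a * r * (x ^ a)⁻¹) * (x ^ a * x ^ b * r * (x ^ a * x ^ b)⁻¹) =
        x ^ a * (r * (x ^ b * r * (x ^ b)⁻¹)) * (x ^ a)⁻¹ := by group
      _ = x ^ a * ((x ^ b * r * (x ^ b)⁻¹) * r) * (x ^ a)⁻¹ := h2
      _ = _ := by group
  rcases Nat.le_total i j with hij | hij
  · obtain ⟨b, rfl⟩ := Nat.exists_eq_add_of_le hij
    exact key i b
  · obtain ⟨b, rfl⟩ := Nat.exists_eq_add_of_le hij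
    exact (key j b).symm

theorem RadOk.comm (h : RadOk p x r) (hp : 0 < p) {a b : S} (ha : a ∈ Rad x r) (hb : b ∈ Rad x r) : a * b = b * a := by
  have h1 : ∀ c ∈ Rad x r, ∀ i : ℕ, (x ^ i * r * (x ^ i)⁻¹) * c = c * (x ^ i * r * (x ^ i)⁻¹) := by
    intro c hc i
    refine closure_induction (p := fun c _ => (x ^ i * r * (x ^ i)⁻¹) * c = c * (x ^ i * r * (x ^ i)⁻¹)) ?_ ?_ ?_ ?_ hc
    · rintro _ ⟨j, rfl⟩
      exact h.commB hp i j
    · rw [mul_one, one_mul]
    · intro a b _ _ ha hb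
      exact (Commute.mul_right (a := x ^ i * r * (x ^ i)⁻¹) (b := a) (c := b) ha hb).eq
    · intro a _ ha
      exact (Commute.inv_right (a := x ^ i * r * (x ^ i)⁻¹) (b := a) ha).eq
  refine closure_induction (p := fun c _ => c * b = b * c) ?_ ?_ ?_ ?_ ha
  · rintro _ ⟨j, rfl⟩
    exact h1 b hb j
  · rw [mul_one, one_mul]
  · intro a c _ _ ha hc
    exact (Commute.mul_left (a := a) (b := c) (c := b) ha hc).eq
  · intro a _ ha
    exact (Commute.inv_left (a := a) (b := b) ha).eq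

theorem RadOk.exp (h : RadOk p x r) (hp : 0 < p) {a : S} (ha : a ∈ Rad x r) : a * a = 1 := by
  refine closure_induction (p := fun a _ => a * a = 1) ?_ ?_ ?_ ?_ ha
  · rintro _ ⟨j, rfl⟩
    calc (x ^ j * r * (x ^ j)⁻¹) * (x ^ j * r * (x ^ j)⁻¹) = x ^ j * (r * r) * (x ^ j)⁻¹ := by group
      _ = 1 := by rw [h.sq]; group
  · exact mul_one 1
  · intro a b ha hb h1 h2
    calc a * b * (a * b) = a * (b * a) * b := by group
      _ = a * (a * b) * b := by rw [h.comm hp hb ha]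
      _ = (a * a) * (b * b) := by group
      _ = 1 := by rw [h1, h2, one_mul]
  · intro a _ h1
    rw [← mul_inv_rev, h1, inv_one]

theorem rad_conj {a : S} (ha : a ∈ Rad x r) (i : ℕ) : x ^ i * a * (x ^ i)⁻¹ ∈ Rad x r := by
  refine closure_induction (p := fun a _ => x ^ i * a * (x ^ i)⁻¹ ∈ Rad x r) ?_ ?_ ?_ ?_ ha
  · rintro _ ⟨j, rfl⟩
    have h1 : x ^ i * (x ^ j * r * (x ^ j)⁻¹) * (x ^ i)⁻¹ = x ^ (i + j) * r * (x ^ (i + j))⁻¹ := by
      rw [pow_add]; group
    show x ^ i * (x ^ j * r * (x ^ j)⁻¹) * (x ^ i)⁻¹ ∈ Rad x r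
    rw [h1]
    exact RadOk.mem _
  · rw [mul_one, mul_inv_cancel]
    exact one_mem _
  · intro a b _ _ ha hb
    have h1 : x ^ i * (a * b) * (x ^ i)⁻¹ = (x ^ i * a * (x ^ i)⁻¹) * (x ^ i * b * (x ^ i)⁻¹) := by group
    rw [h1]
    exact mul_mem ha hb
  · intro a _ ha
    have h1 : x ^ i * a⁻¹ * (x ^ i)⁻¹ = (x ^ i * a * (x ^ i)⁻¹)⁻¹ := by group
    rw [h1]
    exact inv_mem ha

theorem norm_mem {a : S} (ha : a ∈ Rad x r) (k : ℕ) :
    (a * x) ^ k * (x ^ k)⁻¹ ∈ Rad x r := by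
  induction k with
  | zero => rw [pow_zero, pow_zero, one_mul, inv_one]; exact one_mem _
  | succ k ih =>
    have h1 : (a * x) ^ (k + 1) * (x ^ (k + 1))⁻¹ = ((a * x) ^ k * (x ^ k)⁻¹) * (x ^ k * a * (x ^ k)⁻¹) := by
      rw [pow_succ, pow_succ]; group
    rw [h1]
    exact mul_mem ih (rad_conj ha k)

theorem RadOk.norm_mul (h : RadOk p x r) (hp : 0 < p) {a b : S} (ha : a ∈ Rad x r) (hb : b ∈ Rad x r) (k : ℕ) :
    (a * b * x) ^ k * (x ^ k)⁻¹ = ((a * x) ^ k * (x ^ k)⁻¹) * ((b * x) ^ k * (x ^ k)⁻¹) := by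
  induction k with
  | zero => simp
  | succ k ih =>
    have e : ∀ c : S, (c * x) ^ (k + 1) * (x ^ (k + 1))⁻¹ = ((c * x) ^ k * (x ^ k)⁻¹) * (x ^ k * c * (x ^ k)⁻¹) := by
      intro c
      rw [pow_succ, pow_succ]; group
    rw [e, e, e, ih]
    have h1 := h.comm hp (norm_mem hb k) (rad_conj ha k)
    set A := (a * x) ^ k * (x ^ k)⁻¹
    set B := (b * x) ^ k * (x ^ k)⁻¹
    have h2 : x ^ k * (a * b) * (x ^ k)⁻¹ = (x ^ k * a * (x ^ k)⁻¹) * (x ^ k * b * (x ^ k)⁻¹) := by group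
    rw [h2]
    calc A * B * ((x ^ k * a * (x ^ k)⁻¹) * (x ^ k * b * (x ^ k)⁻¹)) =
        A * (B * (x ^ k * a * (x ^ k)⁻¹)) * (x ^ k * b * (x ^ k)⁻¹) := by group
      _ = A * ((x ^ k * a * (x ^ k)⁻¹) * B) * (x ^ k * b * (x ^ k)⁻¹) := by rw [h1]
      _ = _ := by group

theorem RadOk.norm_one (h : RadOk p x r) (hp : 0 < p) {a : S} (ha : a ∈ Rad x r) : (a * x) ^ p = 1 := by
  have h0 : ∀ c : S, (c * x) ^ p * (x ^ p)⁻¹ = (c * x) ^ p := fun c => by rw [h.pw, inv_one, mul_one]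
  refine closure_induction (p := fun a _ => (a * x) ^ p = 1) ?_ ?_ ?_ ?_ ha
  · rintro _ ⟨j, rfl⟩
    have h1 : x ^ j * r * (x ^ j)⁻¹ * x = x ^ j * (r * x) * (x ^ j)⁻¹ := by
      rw [mul_assoc (x ^ j * r), ((Commute.refl x).pow_left j).inv_left.eq]; group
    show (x ^ j * r * (x ^ j)⁻¹ * x) ^ p = 1
    rw [h1, conj_pow, h.nm, mul_one, mul_inv_cancel]
  · rw [one_mul, h.pw]
  · intro a b ha hb h1 h2
    rw [← h0, h.norm_mul hp ha hb, h0, h0, h1, h2, mul_one]
  · intro a ha h1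
    have h2 : a⁻¹ = a := by
      have := h.exp hp ha
      exact inv_eq_of_mul_eq_one_right this
    rw [h2, h1]

theorem RadOk.free (h : RadOk p x r) (hp : p.Prime) (hp2 : p ≠ 2) {a : S} (ha : a ∈ Rad x r)
    (hax : x * a * x⁻¹ = a) : a = 1 := by
  have h1 := h.norm_one hp.pos ha
  have h2 : Commute a x := by
    have : x * a = a * x := by
      calc x * a = (x * a * x⁻¹) * x := by group
        _ = a * x := by rw [hax]
    exact this.symm
  rw [h2.mul_pow, h.pw, mul_one] at h1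
  have h3 := h.exp hp.pos ha
  obtain ⟨k, hk⟩ : ∃ k, p = 2 * k + 1 := by
    rcases hp.eq_two_or_odd' with h | h
    · exact absurd h hp2
    · exact h
  rw [hk, pow_succ, pow_mul, pow_two, h3, one_pow, one_mul] at h1
  exact h1

theorem RadOk.pgroup (h : RadOk p x r) (hp : 0 < p) : IsPGroup 2 (Rad x r) := by
  rintro ⟨a, ha⟩
  refine ⟨1, ?_⟩
  rw [pow_one]
  apply Subtype.ext
  show a ^ 2 = 1
  rw [pow_two, h.exp hp ha]

theorem RadOk.normalizes (h : RadOk p x r) (hp : 0 < p) : x ∈ normalizer (Rad x r : Set S) := by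
  have h1 : ∀ a ∈ Rad x r, x * a * x⁻¹ ∈ Rad x r := fun a ha => by
    have := rad_conj ha 1
    rwa [pow_one] at this
  rw [mem_normalizer_iff]
  intro a
  refine ⟨h1 a, fun ha => ?_⟩
  have h2 := rad_conj ha (p - 1)
  have h3 : x ^ (p - 1) * x = 1 := by rw [← pow_succ, show p - 1 + 1 = p by omega, h.pw]
  have h4 : x ^ (p - 1) = x⁻¹ := eq_inv_of_mul_eq_one_left h3
  rw [h4] at h2
  have h5 : x⁻¹ * (x * a * x⁻¹) * x⁻¹⁻¹ = a := by group
  rwa [h5] at h2

theorem RadOk.pair [Finite S] (h : RadOk p x r) (hp : p.Prime) (hp2 : p ≠ 2) : Pair p 0 x (Rad x r) := by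
  have : Fact (Nat.Prime 2) := ⟨Nat.prime_two⟩
  refine Pair.of_free (h.pgroup hp.pos).isNilpotent (h.normalizes hp.pos) fun a ha hax => ?_
  rw [pow_zero, pow_one] at hax
  exact h.free hp hp2 ha hax

/-- **the row for `p = 5` from two radicals** -/
theorem row_five [Finite S] {x r s : S} (hr : RadOk 5 x r) (hs : RadOk 5 x s) (hgen : closure ({x, r, s} : Set S) = ⊤) :
    FprRow 6 1 5 S := by
  have h1 := H435.Fpr.T3_sharp_good (p := 5) (k := 1) (r := 2) (x := x) (by norm_num) Nat.prime_two (by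
      intro t ht
      have ht' : 2 ^ t = 6 := ht
      have h3 : t < 3 := by
        by_contra hcon
        have : 2 ^ 3 ≤ 2 ^ t := Nat.pow_le_pow_right (by norm_num) (by omega)
        omega
      interval_cases t <;> omega) (by rw [pow_one, hr.pw]) (hr.pair (by norm_num) (by norm_num))
    (hs.pair (by norm_num) (by norm_num)) (hr.pgroup (by norm_num)) (hs.pgroup (by norm_num)) (by
      rw [eq_top_iff, ← hgen, closure_le]
      rintro z (rfl | rfl | hz)
      · exact subset_closure (Or.inl (Or.inl rfl))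
      · exact subset_closure (Or.inl (Or.inr RadOk.self))
      · rw [Set.mem_singleton_iff] at hz
        rw [hz]
        exact subset_closure (Or.inr RadOk.self))
  exact h1

/-- the case of no fixed points -/
theorem seven_zero [Finite S] {x r u : S} (hr : RadOk 7 x r) (hru : IsConj u r) {H : Subgroup S}
    (hu : Nat.card (fixedBy (S ⧸ H) u) = 0) :
    ∃ x : S, (∃ k : ℕ, orderOf x = 7 ^ k) ∧ (7 + 1) * Nat.card (fixedBy (S ⧸ H) x) ≤ 1 * Nat.card (S ⧸ H) := by
  have h1 := (hr.pair (by norm_num) (by norm_num)).bound_of_fixedPointFree (X := S ⧸ H) (k := 1) (by norm_num)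
    (by rw [pow_one, hr.pw]) (by
      rw [Set.eq_empty_iff_forall_notMem]
      rintro w ⟨-, hw⟩
      have h2 : r • w = w := hw RadOk.self
      obtain ⟨c, hc⟩ := isConj_iff.1 hru
      have h3 : u • (c⁻¹ • w) = c⁻¹ • w := by
        rw [← hc] at h2
        rw [smul_smul, eq_inv_smul_iff, smul_smul, ← mul_assoc]
        exact h2
      rw [Nat.card_eq_zero] at hu
      rcases hu with hu | hu
      · exact hu.elim ⟨_, h3⟩
      · exact hu.not_finite inferInstance)
  obtain ⟨m, -, hm⟩ := (Nat.dvd_prime_pow (show (7 : ℕ).Prime by norm_num)).1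
    (orderOf_dvd_of_pow_eq_one (show x ^ 7 ^ 1 = 1 by rw [pow_one, hr.pw]))
  exact ⟨x, ⟨m, hm⟩, by rw [one_mul]; exact h1⟩

/-- a conjugate of `u` commuting with a conjugate having the single fixed point `P` -/
theorem one_step {Ω : Type*} [MulAction S Ω] {u v w : S} {P : Ω} (hu : ∀ c : S, ∃ Q : Ω, ∀ z, (c * u * c⁻¹) • z = z ↔ z = Q)
    (hv : ∀ z, v • z = z ↔ z = P) (hw : IsConj u w) (hvw : v * w = w * v) : ∀ z, w • z = z ↔ z = P := by
  obtain ⟨c, rfl⟩ := isConj_iff.1 hw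
  obtain ⟨Q, hQ⟩ := hu c
  have h1 : (c * u * c⁻¹) • P = P := by
    rw [← hv, smul_smul, hvw, ← smul_smul, (hv P).2 rfl]
  have h2 := (hQ P).1 h1
  subst h2
  exact hQ

/-- the conditions without inverses -/
theorem RadOk.of_words {p : ℕ} {x r : S} (h1 : r * r = 1) (h2 : x ^ p = 1) (h3 : (r * x) ^ p = 1)
    (h4 : ∀ i, i ≠ 0 → 2 * i ≤ p → r * (x ^ i * r * x ^ (p - i)) = (x ^ i * r * x ^ (p - i)) * r) : RadOk p x r := by
  refine ⟨h1, h2, h3, fun i hi => ?_⟩
  rcases Nat.eq_zero_or_pos i with rfl | h0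
  · simp
  · have h5 : (x ^ i)⁻¹ = x ^ (p - i) := by
      rw [inv_eq_iff_mul_eq_one, ← pow_add, show i + (p - i) = p by omega, h2]
    rw [h5]
    exact h4 i (by omega) hi

theorem dvd_card_of_mem [Finite S] {H : Subgroup S} {w : S} (hw : w ∈ H) {p m : ℕ} (hp : p.Prime) (h1 : w ^ (m * p) = 1)
    (h2 : w ^ m ≠ 1) : p ∣ Nat.card H := by
  have : Fact p.Prime := ⟨hp⟩
  have h3 : orderOf (w ^ m) = p := orderOf_eq_prime (by rw [← pow_mul, h1]) h2
  have h4 : orderOf (⟨w ^ m, pow_mem hw m⟩ : H) = p := by rw [Subgroup.orderOf_mk, h3]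
  rw [← h4]
  exact orderOf_dvd_natCard _

/-- paths of commuting conjugates -/
inductive Path (u : S) : S → S → Prop
  | refl (v : S) : Path u v v
  | step {v w z : S} (h : Path u v w) (hz : IsConj u z) (hc : w * z = z * w) : Path u v z

theorem fix_ne_one [Finite S] {u g : S} (hgen : closure ({u, g} : Set S) = ⊤) (hp : Path u u (g * u * g⁻¹)) {H : Subgroup S}
    (hH : H ≠ ⊤) : Nat.card (fixedBy (S ⧸ H) u) ≠ 1 := by
  intro h1
  rw [Nat.card_eq_one_iff_exists] at h1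
  obtain ⟨⟨P, hP⟩, huniq⟩ := h1
  have hu1 : ∀ z : S ⧸ H, u • z = z ↔ z = P := by
    intro z
    constructor
    · intro hz
      exact congrArg Subtype.val (huniq ⟨z, hz⟩)
    · rintro rfl
      exact hP
  have hu : ∀ c : S, ∃ Q : S ⧸ H, ∀ z, (c * u * c⁻¹) • z = z ↔ z = Q := by
    intro c
    refine ⟨c • P, fun z => ?_⟩
    rw [mul_smul, mul_smul, smul_eq_iff_eq_inv_smul, hu1, inv_smul_eq_iff]
  have h2 : ∀ {v w : S}, Path u v w → (∀ z : S ⧸ H, v • z = z ↔ z = P) → ∀ z : S ⧸ H, w • z = z ↔ z = P := by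
    intro v w h
    induction h with
    | refl => exact fun h => h
    | step h hz hc ih => exact fun h3 => one_step hu (ih h3) hz hc
  have h3 := h2 hp hu1
  have h4 : g • P = P := by
    rw [← h3, mul_smul, mul_smul, inv_smul_smul]
    congr 1
  apply eq_empty_of_closure hgen hH (X := S ⧸ H) (ω := ((1 : S) : S ⧸ H)) (stabilizer_quotient H) P
  rintro a (rfl | ha)
  · exact hP
  · rw [Set.mem_singleton_iff] at ha
    rw [ha]
    exact h4

/-- **the row for `p = 7` from a triple of orders 2, 7, 7** -/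
theorem row_277 [Finite S] {u y x r : S} (hu : orderOf u = 2) (hy : orderOf y = 7) (huy : orderOf (u * y) = 7)
    (hgen : closure ({u, y} : Set S) = ⊤) (hr : RadOk 7 x r) (hru : IsConj u r) (hp : Path u u (y * u * y⁻¹)) :
    FprRow 8 1 7 S := by
  intro H hH
  by_contra hcon
  have h1 := seven_277 hu hy huy hgen hcon
  have h2 := fix_ne_one hgen hp hH
  exact hcon (seven_zero hr hru (by omega))

end radical

end Cfsg.Agent.H147.Fpr
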