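import Cfsg.Agent.CoOneType.CoEval
import Cfsg.Agent.CoOneType.CoFast

/-!
# Explicit matrices (times 8) of elements of `Co0` for the row `p = 7` of `Co1` (helper147)

`u` (class 2C), `x` (order 7), `r` (the sign change on a dodecad), `g` with `u = g r g⁻¹`, `m` (order 11, commutes with `r`).
-/

set_option autoImplicit false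

namespace Cfsg.Agent.H147.Fpr.CoOneLet

open Cfsg Cfsg.Agent.SporadicA Cfsg.Agent.SporadicStructure.Co0Matrix Cfsg.Agent.CoOneType.CoEval
  Cfsg.Agent.CoOneType

/-- Rows of `u`. -/
def uR : List (List ℤ) :=
  [[-4,-2,2,-2,0,0,-2,0,-2,-4,0,0,2,0,0,0,0,2,0,0,0,2,0,0],
  [-2,0,0,0,2,-2,0,2,0,2,2,-2,0,-2,2,2,2,0,2,-2,-2,0,-2,-2],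
  [2,0,0,0,2,2,0,-2,0,-2,2,-2,0,2,2,-2,2,0,-2,-2,2,0,-2,-2],
  [-2,0,0,0,-2,-2,0,-2,0,2,2,-2,0,2,-2,-2,-2,0,-2,-2,-2,0,-2,2],
  [0,2,2,-2,4,0,2,0,-2,0,0,0,-2,0,0,0,0,-2,0,0,0,2,0,4],
  [0,-2,2,-2,0,0,-2,0,2,0,0,4,-2,0,0,0,0,-2,0,0,0,-2,-4,0],
  [-2,0,0,0,2,-2,0,-2,0,2,-2,2,0,2,2,-2,2,0,-2,2,-2,0,2,-2],
  [0,2,-2,-2,0,0,-2,4,2,0,0,0,2,4,0,0,0,-2,0,0,0,2,0,0],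
  [-2,0,0,0,-2,2,0,2,0,2,-2,-2,0,-2,2,-2,2,0,-2,2,2,0,-2,2],
  [-4,2,-2,2,0,0,2,0,2,-4,0,0,-2,0,0,0,0,-2,0,0,0,-2,0,0],
  [0,2,2,2,0,0,-2,0,-2,0,-4,0,2,0,0,0,0,-2,0,-4,0,-2,0,0],
  [0,-2,-2,-2,0,4,2,0,-2,0,0,0,2,0,0,0,0,-2,0,0,-4,-2,0,0],
  [2,0,0,0,-2,-2,0,2,0,-2,2,2,0,-2,2,-2,2,0,-2,-2,-2,0,2,2],
  [0,-2,2,2,0,0,2,4,-2,0,0,0,-2,4,0,0,0,2,0,0,0,-2,0,0],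
  [0,2,2,-2,0,0,2,0,2,0,0,0,2,0,0,4,0,2,-4,0,0,-2,0,0],
  [0,2,-2,-2,0,0,-2,0,-2,0,0,0,-2,0,4,0,-4,2,0,0,0,-2,0,0],
  [0,2,2,-2,0,0,2,0,2,0,0,0,2,0,0,-4,0,2,4,0,0,-2,0,0],
  [2,0,0,0,-2,-2,0,-2,0,-2,-2,-2,0,2,2,2,2,0,2,2,-2,0,-2,2],
  [0,2,-2,-2,0,0,-2,0,-2,0,0,0,-2,0,-4,0,4,2,0,0,0,-2,0,0],
  [0,-2,-2,-2,0,0,2,0,2,0,-4,0,-2,0,0,0,0,2,0,-4,0,2,0,0],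
  [0,-2,2,-2,0,0,-2,0,2,0,0,-4,-2,0,0,0,0,-2,0,0,0,-2,4,0],
  [2,0,0,0,2,-2,0,2,0,-2,-2,-2,0,-2,-2,-2,-2,0,-2,2,-2,0,-2,-2],
  [0,-2,-2,-2,0,-4,2,0,-2,0,0,0,2,0,0,0,0,-2,0,0,4,-2,0,0],
  [0,-2,-2,2,4,0,-2,0,2,0,0,0,2,0,0,0,0,2,0,0,0,-2,0,4]]

/-- Columns of `u`. -/
def uC : List (List ℤ) := uR

theorem ok_u : Ok uR uC := CoFast.ok_of_okZ (by decide +kernel)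

/-- Rows of `x`. -/
def xR : List (List ℤ) :=
  [[0,0,0,0,0,0,0,0,0,0,0,0,0,0,0,8,0,0,0,0,0,0,0,0],
  [0,0,0,0,0,0,0,0,0,0,0,0,0,0,0,0,0,0,0,8,0,0,0,0],
  [0,0,0,0,0,0,0,0,0,0,8,0,0,0,0,0,0,0,0,0,0,0,0,0],
  [8,0,0,0,0,0,0,0,0,0,0,0,0,0,0,0,0,0,0,0,0,0,0,0],
  [0,0,0,0,0,0,0,0,0,0,0,0,0,0,0,0,0,0,0,0,8,0,0,0],
  [0,0,0,0,0,0,0,0,0,0,0,8,0,0,0,0,0,0,0,0,0,0,0,0],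
  [0,0,0,0,0,0,8,0,0,0,0,0,0,0,0,0,0,0,0,0,0,0,0,0],
  [0,0,0,0,0,0,0,0,0,0,0,0,0,8,0,0,0,0,0,0,0,0,0,0],
  [0,0,0,0,0,0,0,0,0,8,0,0,0,0,0,0,0,0,0,0,0,0,0,0],
  [0,8,0,0,0,0,0,0,0,0,0,0,0,0,0,0,0,0,0,0,0,0,0,0],
  [0,0,0,8,0,0,0,0,0,0,0,0,0,0,0,0,0,0,0,0,0,0,0,0],
  [0,0,0,0,0,0,0,0,0,0,0,0,0,0,0,0,0,0,0,0,0,0,8,0],
  [0,0,0,0,0,0,0,0,0,0,0,0,8,0,0,0,0,0,0,0,0,0,0,0],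
  [0,0,0,0,0,8,0,0,0,0,0,0,0,0,0,0,0,0,0,0,0,0,0,0],
  [0,0,0,0,0,0,0,0,0,0,0,0,0,0,0,0,0,0,0,0,0,8,0,0],
  [0,0,0,0,0,0,0,0,0,0,0,0,0,0,8,0,0,0,0,0,0,0,0,0],
  [0,0,0,0,0,0,0,0,0,0,0,0,0,0,0,0,0,0,8,0,0,0,0,0],
  [0,0,0,0,0,0,0,0,8,0,0,0,0,0,0,0,0,0,0,0,0,0,0,0],
  [0,0,0,0,0,0,0,0,0,0,0,0,0,0,0,0,0,8,0,0,0,0,0,0],
  [0,0,0,0,0,0,0,0,0,0,0,0,0,0,0,0,8,0,0,0,0,0,0,0],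
  [0,0,0,0,0,0,0,8,0,0,0,0,0,0,0,0,0,0,0,0,0,0,0,0],
  [0,0,8,0,0,0,0,0,0,0,0,0,0,0,0,0,0,0,0,0,0,0,0,0],
  [0,0,0,0,8,0,0,0,0,0,0,0,0,0,0,0,0,0,0,0,0,0,0,0],
  [0,0,0,0,0,0,0,0,0,0,0,0,0,0,0,0,0,0,0,0,0,0,0,8]]

/-- Columns of `x`. -/
def xC : List (List ℤ) :=
  [[0,0,0,8,0,0,0,0,0,0,0,0,0,0,0,0,0,0,0,0,0,0,0,0],
  [0,0,0,0,0,0,0,0,0,8,0,0,0,0,0,0,0,0,0,0,0,0,0,0],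
  [0,0,0,0,0,0,0,0,0,0,0,0,0,0,0,0,0,0,0,0,0,8,0,0],
  [0,0,0,0,0,0,0,0,0,0,8,0,0,0,0,0,0,0,0,0,0,0,0,0],
  [0,0,0,0,0,0,0,0,0,0,0,0,0,0,0,0,0,0,0,0,0,0,8,0],
  [0,0,0,0,0,0,0,0,0,0,0,0,0,8,0,0,0,0,0,0,0,0,0,0],
  [0,0,0,0,0,0,8,0,0,0,0,0,0,0,0,0,0,0,0,0,0,0,0,0],
  [0,0,0,0,0,0,0,0,0,0,0,0,0,0,0,0,0,0,0,0,8,0,0,0],
  [0,0,0,0,0,0,0,0,0,0,0,0,0,0,0,0,0,8,0,0,0,0,0,0],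
  [0,0,0,0,0,0,0,0,8,0,0,0,0,0,0,0,0,0,0,0,0,0,0,0],
  [0,0,8,0,0,0,0,0,0,0,0,0,0,0,0,0,0,0,0,0,0,0,0,0],
  [0,0,0,0,0,8,0,0,0,0,0,0,0,0,0,0,0,0,0,0,0,0,0,0],
  [0,0,0,0,0,0,0,0,0,0,0,0,8,0,0,0,0,0,0,0,0,0,0,0],
  [0,0,0,0,0,0,0,8,0,0,0,0,0,0,0,0,0,0,0,0,0,0,0,0],
  [0,0,0,0,0,0,0,0,0,0,0,0,0,0,0,8,0,0,0,0,0,0,0,0],
  [8,0,0,0,0,0,0,0,0,0,0,0,0,0,0,0,0,0,0,0,0,0,0,0],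
  [0,0,0,0,0,0,0,0,0,0,0,0,0,0,0,0,0,0,0,8,0,0,0,0],
  [0,0,0,0,0,0,0,0,0,0,0,0,0,0,0,0,0,0,8,0,0,0,0,0],
  [0,0,0,0,0,0,0,0,0,0,0,0,0,0,0,0,8,0,0,0,0,0,0,0],
  [0,8,0,0,0,0,0,0,0,0,0,0,0,0,0,0,0,0,0,0,0,0,0,0],
  [0,0,0,0,8,0,0,0,0,0,0,0,0,0,0,0,0,0,0,0,0,0,0,0],
  [0,0,0,0,0,0,0,0,0,0,0,0,0,0,8,0,0,0,0,0,0,0,0,0],
  [0,0,0,0,0,0,0,0,0,0,0,8,0,0,0,0,0,0,0,0,0,0,0,0],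
  [0,0,0,0,0,0,0,0,0,0,0,0,0,0,0,0,0,0,0,0,0,0,0,8]]

theorem ok_x : Ok xR xC := CoFast.ok_of_okZ (by decide +kernel)

/-- Rows of `r`. -/
def rR : List (List ℤ) :=
  [[-8,0,0,0,0,0,0,0,0,0,0,0,0,0,0,0,0,0,0,0,0,0,0,0],
  [0,8,0,0,0,0,0,0,0,0,0,0,0,0,0,0,0,0,0,0,0,0,0,0],
  [0,0,8,0,0,0,0,0,0,0,0,0,0,0,0,0,0,0,0,0,0,0,0,0],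
  [0,0,0,8,0,0,0,0,0,0,0,0,0,0,0,0,0,0,0,0,0,0,0,0],
  [0,0,0,0,-8,0,0,0,0,0,0,0,0,0,0,0,0,0,0,0,0,0,0,0],
  [0,0,0,0,0,-8,0,0,0,0,0,0,0,0,0,0,0,0,0,0,0,0,0,0],
  [0,0,0,0,0,0,8,0,0,0,0,0,0,0,0,0,0,0,0,0,0,0,0,0],
  [0,0,0,0,0,0,0,-8,0,0,0,0,0,0,0,0,0,0,0,0,0,0,0,0],
  [0,0,0,0,0,0,0,0,8,0,0,0,0,0,0,0,0,0,0,0,0,0,0,0],
  [0,0,0,0,0,0,0,0,0,-8,0,0,0,0,0,0,0,0,0,0,0,0,0,0],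
  [0,0,0,0,0,0,0,0,0,0,-8,0,0,0,0,0,0,0,0,0,0,0,0,0],
  [0,0,0,0,0,0,0,0,0,0,0,8,0,0,0,0,0,0,0,0,0,0,0,0],
  [0,0,0,0,0,0,0,0,0,0,0,0,8,0,0,0,0,0,0,0,0,0,0,0],
  [0,0,0,0,0,0,0,0,0,0,0,0,0,8,0,0,0,0,0,0,0,0,0,0],
  [0,0,0,0,0,0,0,0,0,0,0,0,0,0,-8,0,0,0,0,0,0,0,0,0],
  [0,0,0,0,0,0,0,0,0,0,0,0,0,0,0,8,0,0,0,0,0,0,0,0],
  [0,0,0,0,0,0,0,0,0,0,0,0,0,0,0,0,8,0,0,0,0,0,0,0],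
  [0,0,0,0,0,0,0,0,0,0,0,0,0,0,0,0,0,-8,0,0,0,0,0,0],
  [0,0,0,0,0,0,0,0,0,0,0,0,0,0,0,0,0,0,-8,0,0,0,0,0],
  [0,0,0,0,0,0,0,0,0,0,0,0,0,0,0,0,0,0,0,-8,0,0,0,0],
  [0,0,0,0,0,0,0,0,0,0,0,0,0,0,0,0,0,0,0,0,-8,0,0,0],
  [0,0,0,0,0,0,0,0,0,0,0,0,0,0,0,0,0,0,0,0,0,-8,0,0],
  [0,0,0,0,0,0,0,0,0,0,0,0,0,0,0,0,0,0,0,0,0,0,8,0],
  [0,0,0,0,0,0,0,0,0,0,0,0,0,0,0,0,0,0,0,0,0,0,0,8]]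

/-- Columns of `r`. -/
def rC : List (List ℤ) := rR

theorem ok_r : Ok rR rC := CoFast.ok_of_okZ (by decide +kernel)

/-- Rows of `g`. -/
def gR : List (List ℤ) :=
  [[2,-2,-2,-2,2,-4,0,-2,0,4,2,0,2,0,0,0,0,0,0,0,0,0,0,0],
  [2,2,2,-2,2,0,0,-2,0,0,-2,-4,-2,0,0,0,0,4,0,0,0,0,0,0],
  [2,-2,2,-2,-2,0,0,2,4,0,-2,0,2,0,0,0,0,0,0,0,-4,0,0,0],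
  [2,2,2,2,2,0,0,2,0,0,2,0,2,0,0,-4,0,0,0,0,0,4,0,0],
  [-2,-2,2,-2,2,0,0,2,0,0,2,0,-2,0,0,0,0,0,0,0,0,0,-4,4],
  [0,0,0,0,0,2,-2,0,2,2,0,2,0,2,-2,2,2,2,-2,-2,2,2,-2,-2],
  [2,-2,2,2,-2,0,4,-2,0,0,2,0,-2,0,-4,0,0,0,0,0,0,0,0,0],
  [2,2,-2,-2,-2,0,0,2,0,0,2,0,-2,4,0,0,-4,0,0,0,0,0,0,0],
  [-2,2,-2,2,2,0,0,-2,4,0,2,0,-2,0,0,0,0,0,0,0,-4,0,0,0],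
  [-2,2,2,2,-2,-4,0,2,0,4,-2,0,-2,0,0,0,0,0,0,0,0,0,0,0],
  [-2,2,2,-2,-2,0,0,-2,0,0,2,0,2,0,0,0,0,0,-4,4,0,0,0,0],
  [0,0,0,0,0,-2,2,0,-2,-2,0,2,0,2,2,2,2,2,2,2,-2,2,-2,-2],
  [-2,2,-2,-2,2,0,4,2,0,0,-2,0,2,0,-4,0,0,0,0,0,0,0,0,0],
  [-2,-2,2,2,2,0,0,-2,0,0,-2,0,2,4,0,0,-4,0,0,0,0,0,0,0],
  [0,0,0,0,0,2,2,0,2,2,0,-2,0,-2,2,2,-2,-2,2,2,2,2,-2,-2],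
  [0,0,0,0,0,-2,-2,0,-2,-2,0,-2,0,-2,-2,2,-2,-2,-2,-2,-2,2,-2,-2],
  [0,0,0,0,0,-2,2,0,2,-2,0,-2,0,2,2,2,2,-2,-2,-2,2,2,2,2],
  [-2,-2,-2,2,-2,0,0,2,0,0,2,-4,2,0,0,0,0,4,0,0,0,0,0,0],
  [0,0,0,0,0,2,-2,0,-2,2,0,-2,0,2,-2,2,2,-2,2,2,-2,2,2,2],
  [2,-2,-2,2,2,0,0,2,0,0,-2,0,-2,0,0,0,0,0,-4,4,0,0,0,0],
  [0,0,0,0,0,-2,-2,0,2,-2,0,2,0,-2,-2,2,-2,2,2,2,2,2,2,2],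
  [-2,-2,-2,-2,-2,0,0,-2,0,0,-2,0,-2,0,0,-4,0,0,0,0,0,4,0,0],
  [0,0,0,0,0,2,2,0,-2,2,0,2,0,-2,2,2,-2,2,-2,-2,-2,2,2,2],
  [2,2,-2,2,-2,0,0,-2,0,0,-2,0,2,0,0,0,0,0,0,0,0,0,-4,4]]

/-- Columns of `g`. -/
def gC : List (List ℤ) :=
  [[2,2,2,2,-2,0,2,2,-2,-2,-2,0,-2,-2,0,0,0,-2,0,2,0,-2,0,2],
  [-2,2,-2,2,-2,0,-2,2,2,2,2,0,2,-2,0,0,0,-2,0,-2,0,-2,0,2],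
  [-2,2,2,2,2,0,2,-2,-2,2,2,0,-2,2,0,0,0,-2,0,-2,0,-2,0,-2],
  [-2,-2,-2,2,-2,0,2,-2,2,2,-2,0,-2,2,0,0,0,2,0,2,0,-2,0,2],
  [2,2,-2,2,2,0,-2,-2,2,-2,-2,0,2,2,0,0,0,-2,0,2,0,-2,0,-2],
  [-4,0,0,0,0,2,0,0,0,-4,0,-2,0,0,2,-2,-2,0,2,0,-2,0,2,0],
  [0,0,0,0,0,-2,4,0,0,0,0,2,4,0,2,-2,2,0,-2,0,-2,0,2,0],
  [-2,-2,2,2,2,0,-2,2,-2,2,-2,0,2,-2,0,0,0,2,0,2,0,-2,0,-2],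
  [0,0,4,0,0,2,0,0,4,0,0,-2,0,0,2,-2,2,0,-2,0,2,0,-2,0],
  [4,0,0,0,0,2,0,0,0,4,0,-2,0,0,2,-2,-2,0,2,0,-2,0,2,0],
  [2,-2,-2,2,2,0,2,2,2,-2,2,0,-2,-2,0,0,0,2,0,-2,0,-2,0,-2],
  [0,-4,0,0,0,2,0,0,0,0,0,2,0,0,-2,-2,-2,-4,-2,0,2,0,2,0],
  [2,-2,2,2,-2,0,-2,-2,-2,-2,2,0,2,2,0,0,0,2,0,-2,0,-2,0,2],
  [0,0,0,0,0,2,0,4,0,0,0,2,0,4,-2,-2,2,0,2,0,-2,0,-2,0],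
  [0,0,0,0,0,-2,-4,0,0,0,0,2,-4,0,2,-2,2,0,-2,0,-2,0,2,0],
  [0,0,0,-4,0,2,0,0,0,0,0,2,0,0,2,2,2,0,2,0,2,-4,2,0],
  [0,0,0,0,0,2,0,-4,0,0,0,2,0,-4,-2,-2,2,0,2,0,-2,0,-2,0],
  [0,4,0,0,0,2,0,0,0,0,0,2,0,0,-2,-2,-2,4,-2,0,2,0,2,0],
  [0,0,0,0,0,-2,0,0,0,0,-4,2,0,0,2,-2,-2,0,2,-4,2,0,-2,0],
  [0,0,0,0,0,-2,0,0,0,0,4,2,0,0,2,-2,-2,0,2,4,2,0,-2,0],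
  [0,0,-4,0,0,2,0,0,-4,0,0,-2,0,0,2,-2,2,0,-2,0,2,0,-2,0],
  [0,0,0,4,0,2,0,0,0,0,0,2,0,0,2,2,2,0,2,0,2,4,2,0],
  [0,0,0,0,-4,-2,0,0,0,0,0,-2,0,0,-2,-2,2,0,2,0,2,0,2,-4],
  [0,0,0,0,4,-2,0,0,0,0,0,-2,0,0,-2,-2,2,0,2,0,2,0,2,4]]

theorem ok_g : Ok gR gC := CoFast.ok_of_okZ (by decide +kernel)

/-- Rows of `m`. -/
def mR : List (List ℤ) :=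
  [[0,0,0,0,0,0,0,0,0,0,0,0,0,0,0,0,0,0,0,0,8,0,0,0],
  [0,0,0,0,0,0,0,0,0,0,0,0,8,0,0,0,0,0,0,0,0,0,0,0],
  [0,0,0,8,0,0,0,0,0,0,0,0,0,0,0,0,0,0,0,0,0,0,0,0],
  [0,0,0,0,0,0,0,0,0,0,0,0,0,8,0,0,0,0,0,0,0,0,0,0],
  [8,0,0,0,0,0,0,0,0,0,0,0,0,0,0,0,0,0,0,0,0,0,0,0],
  [0,0,0,0,0,0,0,0,0,0,0,0,0,0,0,0,0,8,0,0,0,0,0,0],
  [0,0,0,0,0,0,0,0,8,0,0,0,0,0,0,0,0,0,0,0,0,0,0,0],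
  [0,0,0,0,0,0,0,0,0,0,0,0,0,0,0,0,0,0,0,8,0,0,0,0],
  [0,8,0,0,0,0,0,0,0,0,0,0,0,0,0,0,0,0,0,0,0,0,0,0],
  [0,0,0,0,0,0,0,0,0,0,0,0,0,0,0,0,0,0,0,0,0,8,0,0],
  [0,0,0,0,0,0,0,0,0,0,8,0,0,0,0,0,0,0,0,0,0,0,0,0],
  [0,0,0,0,0,0,0,0,0,0,0,8,0,0,0,0,0,0,0,0,0,0,0,0],
  [0,0,0,0,0,0,0,0,0,0,0,0,0,0,0,8,0,0,0,0,0,0,0,0],
  [0,0,0,0,0,0,0,0,0,0,0,0,0,0,0,0,8,0,0,0,0,0,0,0],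
  [0,0,0,0,0,8,0,0,0,0,0,0,0,0,0,0,0,0,0,0,0,0,0,0],
  [0,0,0,0,0,0,0,0,0,0,0,0,0,0,0,0,0,0,0,0,0,0,8,0],
  [0,0,0,0,0,0,8,0,0,0,0,0,0,0,0,0,0,0,0,0,0,0,0,0],
  [0,0,0,0,0,0,0,8,0,0,0,0,0,0,0,0,0,0,0,0,0,0,0,0],
  [0,0,0,0,0,0,0,0,0,0,0,0,0,0,8,0,0,0,0,0,0,0,0,0],
  [0,0,0,0,8,0,0,0,0,0,0,0,0,0,0,0,0,0,0,0,0,0,0,0],
  [0,0,0,0,0,0,0,0,0,8,0,0,0,0,0,0,0,0,0,0,0,0,0,0],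
  [0,0,0,0,0,0,0,0,0,0,0,0,0,0,0,0,0,0,8,0,0,0,0,0],
  [0,0,0,0,0,0,0,0,0,0,0,0,0,0,0,0,0,0,0,0,0,0,0,8],
  [0,0,8,0,0,0,0,0,0,0,0,0,0,0,0,0,0,0,0,0,0,0,0,0]]

/-- Columns of `m`. -/
def mC : List (List ℤ) :=
  [[0,0,0,0,8,0,0,0,0,0,0,0,0,0,0,0,0,0,0,0,0,0,0,0],
  [0,0,0,0,0,0,0,0,8,0,0,0,0,0,0,0,0,0,0,0,0,0,0,0],
  [0,0,0,0,0,0,0,0,0,0,0,0,0,0,0,0,0,0,0,0,0,0,0,8],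
  [0,0,8,0,0,0,0,0,0,0,0,0,0,0,0,0,0,0,0,0,0,0,0,0],
  [0,0,0,0,0,0,0,0,0,0,0,0,0,0,0,0,0,0,0,8,0,0,0,0],
  [0,0,0,0,0,0,0,0,0,0,0,0,0,0,8,0,0,0,0,0,0,0,0,0],
  [0,0,0,0,0,0,0,0,0,0,0,0,0,0,0,0,8,0,0,0,0,0,0,0],
  [0,0,0,0,0,0,0,0,0,0,0,0,0,0,0,0,0,8,0,0,0,0,0,0],
  [0,0,0,0,0,0,8,0,0,0,0,0,0,0,0,0,0,0,0,0,0,0,0,0],
  [0,0,0,0,0,0,0,0,0,0,0,0,0,0,0,0,0,0,0,0,8,0,0,0],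
  [0,0,0,0,0,0,0,0,0,0,8,0,0,0,0,0,0,0,0,0,0,0,0,0],
  [0,0,0,0,0,0,0,0,0,0,0,8,0,0,0,0,0,0,0,0,0,0,0,0],
  [0,8,0,0,0,0,0,0,0,0,0,0,0,0,0,0,0,0,0,0,0,0,0,0],
  [0,0,0,8,0,0,0,0,0,0,0,0,0,0,0,0,0,0,0,0,0,0,0,0],
  [0,0,0,0,0,0,0,0,0,0,0,0,0,0,0,0,0,0,8,0,0,0,0,0],
  [0,0,0,0,0,0,0,0,0,0,0,0,8,0,0,0,0,0,0,0,0,0,0,0],
  [0,0,0,0,0,0,0,0,0,0,0,0,0,8,0,0,0,0,0,0,0,0,0,0],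
  [0,0,0,0,0,8,0,0,0,0,0,0,0,0,0,0,0,0,0,0,0,0,0,0],
  [0,0,0,0,0,0,0,0,0,0,0,0,0,0,0,0,0,0,0,0,0,8,0,0],
  [0,0,0,0,0,0,0,8,0,0,0,0,0,0,0,0,0,0,0,0,0,0,0,0],
  [8,0,0,0,0,0,0,0,0,0,0,0,0,0,0,0,0,0,0,0,0,0,0,0],
  [0,0,0,0,0,0,0,0,0,8,0,0,0,0,0,0,0,0,0,0,0,0,0,0],
  [0,0,0,0,0,0,0,0,0,0,0,0,0,0,0,8,0,0,0,0,0,0,0,0],
  [0,0,0,0,0,0,0,0,0,0,0,0,0,0,0,0,0,0,0,0,0,0,8,0]]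

theorem ok_m : Ok mR mC := CoFast.ok_of_okZ (by decide +kernel)

end Cfsg.Agent.H147.Fpr.CoOneLet
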