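import Cfsg.Agent.H444.FprThirteen
import Cfsg.Agent.BpSpor.CoOneSeven

/-!
# Elements of order 13 of `Co1`: 9 does not divide the order of the centralizer (helper147)

* `not_nine` : `¬ 3 ^ 2 ∣ |C(a)|` for `a ∈ Co0` of order 13;
* `cent_dvd` : `|C(s)|` divides `312` and `|N(s)| = 1872` for `s ∈ Co1` of order 13.
-/

set_option autoImplicit false

namespace Cfsg.Agent.H147.Fpr.CoOneNine

open Cfsg Module Cfsg.Agent.SporadicStructure.Co0Base
open Cfsg.Agent.SigZeroCo2.Lin Cfsg.Agent.CpAutBig Cfsg.Agent.CpAutBig.TwoPrimes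
open Cfsg.Agent.H444.CoThirteen
open Subgroup (centralizer normalizer zpowers mem_centralizer_singleton_iff)

/-- no element of order `117` -/
theorem no_117 {a g : Co0} (ha : orderOf a = 13) (hg : orderOf g = 9) (hc : g * a = a * g) : False := by
  have h6 : finrank ℚ Sp = 24 := by
    rw [Module.finrank_fintype_fun_eq_card]
    rfl
  have hcomm : Commute a g := hc.symm
  have ha1 : a ^ 13 = 1 := by rw [← ha, pow_orderOf_eq_one]
  have hg1 : g ^ 9 = 1 := by rw [← hg, pow_orderOf_eq_one]
  have h1 : (rep (a * g)) ^ 117 = 1 := by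
    rw [← map_pow, hcomm.mul_pow, show 117 = 13 * 9 by norm_num, pow_mul, ha1, one_pow, one_mul, mul_comm 13 9,
      pow_mul, hg1, one_pow, map_one]
  have h2 := PreUniqCo.Rat.dvd_finrank (n := 117) (by norm_num) (rep (a * g)) h1 (by
    intro p hp hpn v hv
    have h3 : p = 3 ∨ p = 13 := by
      have h4 : p ∈ Nat.primeFactors 117 := Nat.mem_primeFactors.2 ⟨hp, hpn, by norm_num⟩
      have h5 : Nat.primeFactors 117 = {3, 13} := by
        rw [show (117 : ℕ) = 3 ^ 2 * 13 by norm_num, Nat.primeFactors_mul (by norm_num) (by norm_num),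
          Nat.primeFactors_pow _ (by norm_num), Nat.Prime.primeFactors (by norm_num), Nat.Prime.primeFactors (by norm_num)]
        rfl
      rw [h5] at h4
      simpa using h4
    rcases h3 with rfl | rfl
    · have h4 : (a * g) ^ (117 / 3) = g ^ 3 := by
        rw [hcomm.mul_pow, show 117 / 3 = 13 * 3 by norm_num, pow_mul, ha1, one_pow, one_mul,
          show 13 * 3 = 9 * 4 + 3 by norm_num, pow_add, pow_mul, hg1, one_pow, one_mul]
      rw [← map_pow, h4] at hv
      refine free_rep (free_of_order (a := a) (g := g ^ 3) (q := 3) (k := 1) ha ((Commute.pow_left hc 3).eq) (Or.inr rfl) ?_ ?_) hv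
      · rw [pow_one, ← pow_mul]; exact hg1
      · intro h
        have := orderOf_dvd_of_pow_eq_one h
        rw [hg] at this
        norm_num at this
    · have h4 : (a * g) ^ (117 / 13) = a ^ 9 := by
        rw [hcomm.mul_pow, show 117 / 13 = 9 by norm_num, hg1, mul_one]
      rw [← map_pow, h4] at hv
      refine free_rep (BpSpor.MBigCo.free_thirteen (x := a ^ 9) ?_) hv
      rw [Nat.Coprime.orderOf_pow (by rw [ha]; norm_num), ha])
  rw [h6, show (117 : ℕ) = 3 ^ 2 * 13 by norm_num, Nat.totient_mul (by norm_num),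
    Nat.totient_prime_pow (by norm_num) (by norm_num), Nat.totient_prime (by norm_num)] at h2
  norm_num at h2

/-- no elementary abelian subgroup of order `9` -/
theorem no_33 {a y z : Co0} (ha : orderOf a = 13) (hy : y ^ 3 = 1) (hz : z ^ 3 = 1) (hya : y * a = a * y)
    (hza : z * a = a * z) (hyz : Commute y z) (hy1 : y ≠ 1) (hz1 : z ∉ zpowers y) : False := by
  have hcomm : Commute (rep y) (rep z) := by
    change rep y * rep z = rep z * rep y
    rw [← map_mul, ← map_mul, hyz.eq]
  have h6 : finrank ℚ Sp = 24 := by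
    rw [Module.finrank_fintype_fun_eq_card]
    rfl
  have htop : (⊤ : Submodule ℚ Sp) ≠ ⊥ := by
    intro h
    have h7 : finrank ℚ (⊤ : Submodule ℚ Sp) = 24 := by rw [finrank_top, h6]
    rw [h, finrank_bot] at h7
    norm_num at h7
  obtain ⟨v, -, hv0, hv⟩ := BpSpor.RankBound.exists_fix_three (Y := rep y) (Z := rep z) hcomm
    (by rw [← map_pow, hy, map_one]) (by rw [← map_pow, hz, map_one]) htop
    (fun v _ => Submodule.mem_top) (fun v _ => Submodule.mem_top)
  have hfree : ∀ g : Co0, g ^ 3 = 1 → g ≠ 1 → g * a = a * g → rep g v ≠ v := by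
    intro g hg hg1 hga hv'
    exact hv0 (free_rep (free_of_order (a := a) (g := g) (q := 3) (k := 1) ha hga (Or.inr rfl) (by rw [pow_one]; exact hg) hg1) hv')
  have hyz3 : (y * z) ^ 3 = 1 := by rw [hyz.mul_pow, hy, hz, mul_one]
  have hyza : (y * z) * a = a * (y * z) := by rw [mul_assoc, hza, ← mul_assoc, hya, mul_assoc]
  rcases hv with hv | hv | hv | hv
  · exact hfree y hy hy1 hya hv
  · exact hfree z hz (fun h => hz1 (by rw [h]; exact one_mem _)) hza hv
  · rw [← map_mul] at hv
    refine hfree (y * z) hyz3 (fun h => hz1 ?_) hyza hv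
    have h7 : z = y⁻¹ := by
      rw [eq_inv_iff_mul_eq_one, ← hyz.eq]; exact h
    rw [h7]
    exact Subgroup.inv_mem _ (Subgroup.mem_zpowers y)
  · rw [← map_mul, ← map_mul] at hv
    have hc2 : Commute (y * y) z := hyz.mul_left hyz
    refine hfree (y * y * z) ?_ (fun h => hz1 ?_) ?_ hv
    · rw [hc2.mul_pow, hz, mul_one, ← pow_two, ← pow_mul, mul_comm, pow_mul, hy, one_pow]
    · have h7 : z = (y * y)⁻¹ := by
        rw [eq_inv_iff_mul_eq_one, ← hc2.eq]; exact h
      rw [h7]
      exact Subgroup.inv_mem _ (Subgroup.mul_mem _ (Subgroup.mem_zpowers y) (Subgroup.mem_zpowers y))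
    · calc y * y * z * a = y * (y * z * a) := by group
        _ = y * a * (y * z) := by rw [hyza]; group
        _ = a * (y * y * z) := by rw [hya]; group

theorem not_nine {a : Co0} (ha : orderOf a = 13) : ¬ 3 ^ 2 ∣ Nat.card ↥(centralizer ({a} : Set Co0)) := by
  intro hd
  have hfin := CoZero.finite_co0
  have : Fact (Nat.Prime 3) := ⟨by norm_num⟩
  obtain ⟨P, hP⟩ := Sylow.exists_subgroup_card_pow_prime 3 hd
  have hab : ∀ x y : P, x * y = y * x := by
    have h1 := IsPGroup.isMulCommutative_of_card_eq_prime_sq (p := 3) (G := P) hP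
    exact h1.is_comm.comm
  have hP9 : ∀ g : P, g ^ 9 = 1 := fun g => by
    have h1 : g ^ Nat.card P = 1 := pow_card_eq_one'
    rwa [hP] at h1
  have hcen : ∀ g : P, (((g : ↥(centralizer ({a} : Set Co0)))) : Co0) * a = a * (((g : ↥(centralizer ({a} : Set Co0)))) : Co0) :=
    fun g => mem_centralizer_singleton_iff.1 g.1.2
  have hord : ∀ g : P, orderOf ((((g : ↥(centralizer ({a} : Set Co0)))) : Co0)) = orderOf g := by
    intro g
    rw [Subgroup.orderOf_coe, Subgroup.orderOf_coe]
  by_cases h9 : ∃ g : P, orderOf g = 9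
  · obtain ⟨g, hg⟩ := h9
    exact no_117 ha ((hord g).trans hg) (hcen g)
  · have h3 : ∀ g : P, g ^ 3 = 1 := by
      intro g
      obtain ⟨m, hm, hm'⟩ := (Nat.dvd_prime_pow Nat.prime_three (m := 2)).1 (by
        have := orderOf_dvd_of_pow_eq_one (hP9 g)
        exact this)
      have h4 : m ≠ 2 := by
        rintro rfl
        exact h9 ⟨g, by rw [hm']; norm_num⟩
      have h5 : orderOf g ∣ 3 := by
        rw [hm']
        exact (pow_dvd_pow 3 (show m ≤ 1 by omega)).trans (by norm_num)
      exact orderOf_dvd_iff_pow_eq_one.1 h5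
    obtain ⟨y, hy⟩ : ∃ y : P, y ≠ 1 := by
      by_contra hcon
      push Not at hcon
      have h4 : Subsingleton P := ⟨fun u v => by rw [hcon u, hcon v]⟩
      have h5 : Nat.card P = 1 := Nat.card_of_subsingleton (1 : P)
      rw [hP] at h5
      norm_num at h5
    obtain ⟨z, hz⟩ : ∃ z : P, z ∉ zpowers y := by
      by_contra hcon
      push Not at hcon
      have h4 : zpowers y = ⊤ := by
        rw [Subgroup.eq_top_iff']; exact hcon
      have h5 : Nat.card (zpowers y) = 9 := by
        rw [h4, Nat.card_congr Subgroup.topEquiv.toEquiv, hP]; norm_num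
      rw [Nat.card_zpowers] at h5
      exact h9 ⟨y, h5⟩
    let φ : P →* Co0 := (centralizer ({a} : Set Co0)).subtype.comp P.subtype
    have hφ : Function.Injective φ := fun u v h => Subtype.ext (Subtype.ext h)
    refine no_33 (a := a) (y := φ y) (z := φ z) ha (by rw [← map_pow, h3, map_one]) (by rw [← map_pow, h3, map_one])
      (hcen y) (hcen z) (by change φ y * φ z = φ z * φ y; rw [← map_mul, ← map_mul, hab]) ?_ ?_
    · intro h
      exact hy (hφ (by rw [h, map_one]))
    · rintro ⟨k, hk⟩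
      apply hz
      refine ⟨k, hφ ?_⟩
      have hk' : φ y ^ k = φ z := hk
      show φ (y ^ k) = φ z
      rw [map_zpow, hk']

open Cfsg.Agent.BpSpor.MBigCo in
/-- **the centralizer of an element of order 13 of `Co1`** -/
theorem dvd_312 {s : Spor.Co1} (hs : orderOf s = 13) : Nat.card ↥(centralizer ({s} : Set Spor.Co1)) ∣ 312 := by
  have h0 := H444.FprThirteen.dvd_cent hs
  obtain ⟨a, rfl, ha13, ha⟩ := exists_lift_thirteen hs
  have h1 := H444.FprThirteen.two_dvd ha13
  set c := Nat.card ↥(centralizer ({Cfsg.Agent.CoOneType.ClosingFacts.mk a} : Set Spor.Co1))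
  have h3 : ¬ 3 ^ 2 ∣ c := fun h => not_nine ha ((h.mul_left 2).trans h1)
  obtain ⟨k, hk⟩ := h0
  have h5 : 3 ∣ k := by
    by_contra h5
    have h6 : Nat.Coprime (3 ^ 2) k := Nat.Coprime.pow_left 2 ((Nat.Prime.coprime_iff_not_dvd Nat.prime_three).2 h5)
    exact h3 (h6.dvd_of_dvd_mul_right (by rw [← hk]; norm_num))
  obtain ⟨m, rfl⟩ := h5
  refine ⟨m, ?_⟩
  have h7 : 3 * 312 = 3 * (c * m) := by rw [← mul_left_comm, ← hk]
  exact Nat.eq_of_mul_eq_mul_left (by norm_num) h7

end Cfsg.Agent.H147.Fpr.CoOneNine
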